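import Cfsg.Agent.FTCons.Basic
import Cfsg.Agent.ThreeInv.Quadratic
import Cfsg.Agent.S0205

/-!
If all elements outside a nonsolvable normal subgroup have prime power order, the quotient is
solvable.
-/

set_option autoImplicit false
set_option maxHeartbeats 800000

open Subgroup

namespace Cfsg.Agent.PPowerOutside

universe u

/-- A fixed-point-free automorphism whose square is the identity inverts every element. -/
theorem eq_inv_of_fixedPointFree_sq {V : Type*} [Group V] [Finite V] (φ : MulAut V)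
    (hfix : ∀ v, φ v = v → v = 1) (hsq : ∀ v, φ (φ v) = v) (v : V) : φ v = v⁻¹ := by
  have hinj : Function.Injective fun u : V => u⁻¹ * φ u := by
    intro a b hab
    have hab' : a⁻¹ * φ a = b⁻¹ * φ b := hab
    have : φ (b * a⁻¹) = b * a⁻¹ := by
      rw [map_mul, map_inv, show φ b = b * (a⁻¹ * φ a) by rw [hab', mul_inv_cancel_left]]
      group
    exact (mul_inv_eq_one.1 (hfix _ this)).symm
  obtain ⟨u, rfl⟩ := Finite.surjective_of_injective hinj v
  simp only
  rw [map_mul, map_inv, hsq, mul_inv_rev, inv_inv]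

/-- A group on which an element of prime order acts without fixed points, normalised and
fixed-point-freely, fixes all powers with exponent its order in a fixed-point-free module. -/
theorem fixed_pow_card {F : Type*} [Group F] [Finite F] {V : Type*} [CommGroup V]
    (φ : F →* MulAut V) (D : Subgroup F) [D.Normal] {p : ℕ} (hp : p.Prime) {x : F}
    (hx : orderOf x = p) (hD : ∀ d ∈ D, Commute x d → d = 1) (hV : ∀ v, φ x v = v → v = 1)
    {d : F} (hd : d ∈ D) (v : V) : φ d (v ^ Nat.card D) = v ^ Nat.card D := by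
  classical
  cases nonempty_fintype D
  have hxp : x ^ p = 1 := hx ▸ pow_orderOf_eq_one x
  have hcyc : ∀ (w : V) (y : F), y ^ p = 1 →
      φ y (∏ i ∈ Finset.range p, φ (y ^ i) w) = ∏ i ∈ Finset.range p, φ (y ^ i) w := by
    intro w y hy
    rw [map_prod]
    have h1 := Finset.prod_range_succ' (fun i => φ (y ^ i) w) p
    rw [Finset.prod_range_succ, hy, pow_zero] at h1
    refine mul_right_cancel (b := φ (1 : F) w) (Eq.trans ?_ h1.symm)
    refine congrArg (· * φ (1 : F) w) (Finset.prod_congr rfl fun i _ => ?_)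
    rw [← MulAut.mul_apply, ← map_mul, ← pow_succ']
  have hone : ∀ w : V, ∏ i ∈ Finset.range p, φ (x ^ i) w = 1 := fun w => hV _ (hcyc w x hxp)
  -- the product over the complements conjugate under `D`
  have hT : ∀ a : D, ∏ i ∈ Finset.range p, φ ((a : F) * x ^ i * (a : F)⁻¹) v = 1 := by
    intro a
    have : ∏ i ∈ Finset.range p, φ ((a : F) * x ^ i * (a : F)⁻¹) v
        = φ (a : F) (∏ i ∈ Finset.range p, φ (x ^ i) (φ (a : F)⁻¹ v)) := by
      rw [map_prod]
      refine Finset.prod_congr rfl fun i _ => ?_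
      rw [← MulAut.mul_apply, ← MulAut.mul_apply, ← map_mul, ← map_mul]
    rw [this, hone, map_one]
  set s : V → V := fun w => ∏ a : D, φ (a : F) w with hs
  have hfix : ∀ w, φ d (s w) = s w := by
    intro w
    simp only [hs, map_prod]
    refine Fintype.prod_equiv (Equiv.mulLeft (⟨d, hd⟩ : D)) _ _ fun a => ?_
    rw [Equiv.coe_mulLeft, Subgroup.coe_mul, map_mul, MulAut.mul_apply]
  have hbij : ∀ i, i ∈ Finset.range p → i ≠ 0 →
      ∏ a : D, φ ((a : F) * x ^ i * (a : F)⁻¹) v = ∏ a : D, φ ((a : F) * x ^ i) v := by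
    intro i hi hi0
    have hmem : ∀ a : D, (a : F) * x ^ i * (a : F)⁻¹ * (x ^ i)⁻¹ ∈ D := fun a => by
      rw [show (a : F) * x ^ i * (a : F)⁻¹ * (x ^ i)⁻¹
        = (a : F) * (x ^ i * (a : F)⁻¹ * (x ^ i)⁻¹) by group]
      exact mul_mem a.2 (‹D.Normal›.conj_mem _ (inv_mem a.2) _)
    let e : D → D := fun a => ⟨_, hmem a⟩
    have hinj : Function.Injective e := by
      intro a b hab
      have h' : (a : F) * x ^ i * (a : F)⁻¹ * (x ^ i)⁻¹
          = (b : F) * x ^ i * (b : F)⁻¹ * (x ^ i)⁻¹ := congrArg Subtype.val hab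
      have h'' := mul_right_cancel h'
      have hc : Commute (x ^ i) ((b : F)⁻¹ * a) := by
        show x ^ i * ((b : F)⁻¹ * a) = (b : F)⁻¹ * a * x ^ i
        calc x ^ i * ((b : F)⁻¹ * a)
            = (b : F)⁻¹ * ((b : F) * x ^ i * (b : F)⁻¹) * a := by group
          _ = (b : F)⁻¹ * a * x ^ i := by rw [← h'']; group
      have hcop : i.Coprime (orderOf x) := by
        rw [hx]
        exact (Nat.coprime_of_lt_prime hi0 (Finset.mem_range.1 hi) hp).symm
      obtain ⟨k, hk⟩ := exists_pow_eq_self_of_coprime hcop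
      have hcx : Commute x ((b : F)⁻¹ * a) := hk ▸ hc.pow_left k
      exact Subtype.ext (inv_mul_eq_one.1 (hD _ (mul_mem (inv_mem b.2) a.2) hcx)).symm
    refine Fintype.prod_bijective e (Finite.injective_iff_bijective.1 hinj) _ _ fun a => ?_
    show _ = φ ((a : F) * x ^ i * (a : F)⁻¹ * (x ^ i)⁻¹ * x ^ i) v
    rw [inv_mul_cancel_right]
  have hall : ∏ i ∈ Finset.range p, ∏ a : D, φ ((a : F) * x ^ i * (a : F)⁻¹) v = 1 := by
    rw [Finset.prod_comm]
    exact Finset.prod_eq_one fun a _ => hT a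
  have hzero : ∏ i ∈ Finset.range p, ∏ a : D, φ ((a : F) * x ^ i) v = 1 := by
    rw [Finset.prod_comm]
    refine Finset.prod_eq_one fun a _ => ?_
    simp_rw [map_mul φ, MulAut.mul_apply]
    rw [← map_prod, hone, map_one]
  have h0 : (0 : ℕ) ∈ Finset.range p := Finset.mem_range.2 hp.pos
  rw [← Finset.mul_prod_erase _ _ h0] at hall hzero
  rw [Finset.prod_congr rfl fun i hi =>
    hbij i (Finset.mem_of_mem_erase hi) (Finset.ne_of_mem_erase hi)] at hall
  have h := mul_right_cancel (hall.trans hzero.symm)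
  simp only [pow_zero, mul_one, mul_inv_cancel, map_one, MulAut.one_apply, Finset.prod_const,
    Finset.card_univ, ← Nat.card_eq_fintype_card] at h
  rw [h]
  exact hfix v

variable {G : Type u} [Group G] [Finite G]

omit [Finite G] in
/-- Two commuting nontrivial elements of coprime orders give an element of non-prime-power
order. -/
theorem eq_one_of_commute {N : Subgroup G} (h : ∀ x : G, x ∉ N → IsPrimePow (orderOf x))
    {t w : G} (ht : t ∉ N) (hw : w ∈ N) (hc : Commute t w)
    (hcop : (orderOf t).Coprime (orderOf w)) : w = 1 := by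
  by_contra hw1
  have ht1 : t ≠ 1 := fun e => ht (e ▸ one_mem N)
  have htw : t * w ∉ N := fun e => ht ((Subgroup.mul_mem_cancel_right N hw).1 e)
  obtain ⟨p, k, hp, hk, hpk⟩ := (isPrimePow_nat_iff _).1 (h _ htw)
  rw [hc.orderOf_mul_eq_mul_orderOf_of_coprime hcop] at hpk
  have hdvd : ∀ q : ℕ, q.Prime → q ∣ orderOf t * orderOf w → q = p := fun q hq hd =>
    (Nat.prime_dvd_prime_iff_eq hq hp).1 (hq.dvd_of_dvd_pow (hpk ▸ hd))
  have h1 : orderOf t ≠ 1 := fun e => ht1 (orderOf_eq_one_iff.1 e)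
  have h2 : orderOf w ≠ 1 := fun e => hw1 (orderOf_eq_one_iff.1 e)
  have e1 := hdvd _ (Nat.minFac_prime h1) ((Nat.minFac_dvd _).mul_right _)
  have e2 := hdvd _ (Nat.minFac_prime h2) ((Nat.minFac_dvd _).mul_left _)
  exact hp.ne_one (Nat.dvd_one.1 (hcop.gcd_eq_one ▸
    Nat.dvd_gcd (e1 ▸ Nat.minFac_dvd _) (e2 ▸ Nat.minFac_dvd _)))

/-- There are no three 2-elements of `K` outside `N`, two of them with squares centralising a
nontrivial odd subgroup of `N` normalised by `K`, the third their product. -/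
theorem false_of_two {N K W : Subgroup G} (h : ∀ x : G, x ∉ N → IsPrimePow (orderOf x))
    (hWN : W ≤ N) (hKW : K ≤ normalizer (W : Set G)) (hW : W ≠ ⊥)
    (hodd : Odd (Nat.card W)) {S : Subgroup G} (hS : IsPGroup 2 S) (hSK : S ≤ K)
    {a b : G} (ha : a ∈ S) (hb : b ∈ S) (haN : a ∉ N) (hbN : b ∉ N) (habN : a * b ∉ N)
    (ha2 : ∀ w ∈ W, Commute (a * a) w) (hb2 : ∀ w ∈ W, Commute (b * b) w) : False := by
  have hfree : ∀ t ∈ S, t ∉ N → ∀ w ∈ W, Commute t w → w = 1 := by
    intro t ht htN w hw hc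
    refine eq_one_of_commute h htN (hWN hw) hc ?_
    obtain ⟨k, hk⟩ := IsPGroup.iff_orderOf.1 hS ⟨t, ht⟩
    rw [Subgroup.orderOf_mk] at hk
    rw [hk]
    refine Nat.Coprime.pow_left _ (Nat.coprime_two_left.2 (hodd.of_dvd_nat ?_))
    rw [← Subgroup.orderOf_mk w hw]
    exact orderOf_dvd_natCard _
  have hinv : ∀ t ∈ S, t ∉ N → (∀ w ∈ W, Commute (t * t) w) → ∀ w ∈ W, t * w * t⁻¹ = w⁻¹ := by
    intro t ht htN ht2 w hw
    let φ : MulAut W := normalizerMonoidHom W ⟨t, hKW (hSK ht)⟩
    have hv : ∀ v : W, (φ v : G) = t * v * t⁻¹ := fun v => rfl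
    have h1 := eq_inv_of_fixedPointFree_sq φ
      (fun v hfx => Subtype.ext (hfree t ht htN v v.2
        (mul_inv_eq_iff_eq_mul.1 ((hv v).symm.trans (congrArg Subtype.val hfx)))))
      (fun v => Subtype.ext (by
        rw [hv, hv, show t * (t * (v : G) * t⁻¹) * t⁻¹ = t * t * v * (t * t)⁻¹ by group,
          (ht2 v v.2).eq, mul_inv_cancel_right]))
      ⟨w, hw⟩
    exact (hv _).symm.trans (congrArg Subtype.val h1)
  obtain ⟨w, hw, hw1⟩ := (Subgroup.bot_or_exists_ne_one W).resolve_left hW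
  refine hw1 (hfree _ (mul_mem ha hb) habN w hw ?_)
  show a * b * w = w * (a * b)
  refine mul_inv_eq_iff_eq_mul.1 ?_
  rw [mul_inv_rev, show a * b * w * (b⁻¹ * a⁻¹) = a * (b * w * b⁻¹) * a⁻¹ by group,
    hinv b hb hbN hb2 w hw, hinv a ha haN ha2 _ (inv_mem hw), inv_inv]

theorem solvable_quotient (N : Subgroup G) [N.Normal] (hns : ¬ Group.IsSolvable N)
    (h : ∀ x : G, x ∉ N → IsPrimePow (orderOf x)) : Group.IsSolvable (G ⧸ N) := by
  classical
  by_contra hQ
  obtain ⟨r, hr, hrN, hr2⟩ : ∃ r : ℕ, r.Prime ∧ r ∣ Nat.card N ∧ r ≠ 2 := by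
    by_contra hc
    push Not at hc
    exact hns (ThreeInv.isSolvable_two_primes 2 Nat.prime_two fun p hp hd => Or.inl (hc p hp hd))
  have := Fact.mk hr
  obtain ⟨R⟩ : Nonempty (Sylow r N) := inferInstance
  set R' : Subgroup G := (R : Subgroup N).map N.subtype with hR'
  have hne : {K : Subgroup G | K ≤ normalizer (R' : Set G) ∧ K ⊔ N = ⊤}.Nonempty :=
    ⟨_, le_rfl, Sylow.normalizer_sup_eq_top R⟩
  obtain ⟨K, ⟨hKR, hKN⟩, hKmin⟩ := (Set.toFinite _).exists_minimal hne
  set D : Subgroup K := N.subgroupOf K with hDdef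
  let f : K →* G ⧸ N := (QuotientGroup.mk' N).comp K.subtype
  have hker : ∀ k : K, f k = 1 ↔ (k : G) ∈ N := fun k => QuotientGroup.eq_one_iff _
  have hf : Function.Surjective f := by
    intro q
    obtain ⟨g, rfl⟩ := QuotientGroup.mk_surjective q
    obtain ⟨k, hk, n, hn, rfl⟩ := Subgroup.mem_sup_of_normal_right.1 (hKN ▸ mem_top g : g ∈ K ⊔ N)
    refine ⟨⟨k, hk⟩, ?_⟩
    show ((k : G) : G ⧸ N) = ((k * n : G) : G ⧸ N)
    rw [QuotientGroup.eq]
    simpa using hn
  -- the Sylow subgroups of `D` are normal in `K`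
  have hnorm : ∀ (q : ℕ) [Fact q.Prime] (Q : Sylow q D),
      ((Q : Subgroup D).map D.subtype).Normal := by
    intro q _ Q
    set M : Subgroup K := normalizer (((Q : Subgroup D).map D.subtype : Subgroup K) : Set K)
      with hM
    have hMD : M ⊔ D = ⊤ := Sylow.normalizer_sup_eq_top Q
    have hsup : M.map K.subtype ⊔ N = ⊤ := by
      refine top_unique (hKN ▸ sup_le (fun k hk => ?_) le_sup_right)
      obtain ⟨a, ha, b, hb, hab⟩ :=
        Subgroup.mem_sup_of_normal_right.1 (hMD ▸ mem_top _ : (⟨k, hk⟩ : K) ∈ M ⊔ D)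
      rw [show k = (a : G) * (b : G) from (congrArg Subtype.val hab).symm]
      exact Subgroup.mul_mem_sup (Subgroup.mem_map_of_mem _ ha) hb
    have hle : K ≤ M.map K.subtype :=
      hKmin ⟨(Subgroup.map_subtype_le M).trans hKR, hsup⟩ (Subgroup.map_subtype_le M)
    refine normalizer_eq_top_iff.1 (top_unique fun k _ => ?_)
    obtain ⟨k', hk', he⟩ := hle k.2
    exact Subtype.ext he ▸ hk'
  -- Sylow 2-subgroups of the quotient
  have heven : Even (Nat.card (G ⧸ N)) := by
    by_contra he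
    exact hQ (Cfsg.Agent.S0205.result (Nat.not_even_iff_odd.1 he))
  obtain ⟨S⟩ : Nonempty (Sylow 2 K) := inferInstance
  set P : Sylow 2 (G ⧸ N) := S.mapSurjective hf with hPdef
  set S' : Subgroup G := (S : Subgroup K).map K.subtype with hS'
  have hS'p : IsPGroup 2 S' := S.2.map _
  have hlift : ∀ q ∈ (P : Subgroup (G ⧸ N)), ∃ k ∈ S', (k : G ⧸ N) = q := by
    intro q hq
    rw [hPdef, Sylow.coe_mapSurjective] at hq
    obtain ⟨k, hk, rfl⟩ := hq
    exact ⟨k, Subgroup.mem_map_of_mem _ hk, rfl⟩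
  obtain ⟨z, hzP, hz, hzc⟩ := FTCons.exists_central_involution (P : Subgroup (G ⧸ N)) P.2
    (P.ne_bot_of_dvd_card heven.two_dvd)
  have huniq : ∀ t ∈ (P : Subgroup (G ⧸ N)), orderOf t = 2 → t = z := by
    intro t htP ht
    by_contra htz
    obtain ⟨a, ha, rfl⟩ := hlift t htP
    obtain ⟨b, hb, rfl⟩ := hlift z hzP
    have hsq : ∀ g : G, orderOf (g : G ⧸ N) = 2 → g ∉ N ∧ g * g ∈ N := by
      intro g hg
      refine ⟨fun e => by rw [(QuotientGroup.eq_one_iff g).2 e, orderOf_one] at hg; omega, ?_⟩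
      rw [← QuotientGroup.eq_one_iff, QuotientGroup.mk_mul, ← pow_two, ← hg]
      exact pow_orderOf_eq_one _
    have haN := hsq a ht
    have hbN := hsq b hz
    have habN : a * b ∉ N := by
      intro e
      rw [← QuotientGroup.eq_one_iff, QuotientGroup.mk_mul] at e
      refine htz ((eq_inv_of_mul_eq_one_left e).trans ?_)
      exact inv_eq_of_mul_eq_one_right (by rw [← pow_two, ← hz]; exact pow_orderOf_eq_one _)
    have haK : a ∈ K := Subgroup.map_subtype_le _ ha
    have hbK : b ∈ K := Subgroup.map_subtype_le _ hb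
    have hSK : S' ≤ K := Subgroup.map_subtype_le _
    by_cases hDodd : ∃ p : ℕ, p.Prime ∧ p ≠ 2 ∧ p ∣ Nat.card D
    · obtain ⟨p, hp, hp2, hpD⟩ := hDodd
      have := Fact.mk hp
      obtain ⟨Q⟩ : Nonempty (Sylow p D) := inferInstance
      obtain ⟨Q2⟩ : Nonempty (Sylow 2 D) := inferInstance
      set W₀ : Subgroup K := (Q : Subgroup D).map D.subtype with hW₀
      have hW₀n : W₀.Normal := hnorm p Q
      set W : Subgroup G := W₀.map K.subtype with hW
      set E : Subgroup K := (Q2 : Subgroup D).map D.subtype with hE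
      have hEn : E.Normal := hnorm 2 Q2
      have hdisj : Disjoint E W₀ :=
        IsPGroup.disjoint_of_ne 2 p (Ne.symm hp2) E W₀ (Q2.2.map _) (Q.2.map _)
      have hsqW : ∀ g ∈ S', g * g ∈ N → ∀ w ∈ W, Commute (g * g) w := by
        intro g hg hg2 w hw
        obtain ⟨g₀, hg₀, rfl⟩ := hg
        obtain ⟨w₀, hw₀, rfl⟩ := hw
        have hgD : g₀ * g₀ ∈ D := hg2
        have hE2 : g₀ * g₀ ∈ E := by
          have hpg : IsPGroup 2 (Subgroup.zpowers (⟨g₀ * g₀, hgD⟩ : D)) := by
            obtain ⟨k, hk⟩ := IsPGroup.iff_orderOf.1 S.2 ⟨g₀ * g₀, mul_mem hg₀ hg₀⟩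
            rw [Subgroup.orderOf_mk] at hk
            exact IsPGroup.of_card (n := k) (by rw [Nat.card_zpowers, Subgroup.orderOf_mk, hk])
          obtain ⟨Q', hQ'⟩ := hpg.exists_le_sylow
          obtain ⟨c, rfl⟩ := MulAction.exists_smul_eq D Q2 Q'
          have hm := hQ' (Subgroup.mem_zpowers _)
          rw [Sylow.coe_subgroup_smul, Subgroup.mem_pointwise_smul_iff_inv_smul_mem] at hm
          have h1 := Subgroup.mem_map_of_mem D.subtype hm
          have h2 := hEn.conj_mem _ h1 (c : K)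
          simpa [MulAut.smul_def, mul_assoc] using h2
        exact (Subgroup.commute_of_normal_of_disjoint E W₀ hEn hW₀n hdisj _ _ hE2 hw₀).map
          K.subtype
      refine false_of_two h ?_ ?_ ?_ ?_ hS'p hSK ha hb haN.1 hbN.1 habN
        (hsqW a ha haN.2) (hsqW b hb hbN.2)
      · rintro w ⟨w₀, hw₀, rfl⟩
        obtain ⟨d, -, rfl⟩ := hw₀
        exact d.2
      · intro k hk
        rw [Subgroup.mem_normalizer_iff]
        intro w
        constructor
        · rintro ⟨w₀, hw₀, rfl⟩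
          exact ⟨_, hW₀n.conj_mem w₀ hw₀ ⟨k, hk⟩, rfl⟩
        · rintro ⟨w₁, hw₁, e⟩
          refine ⟨_, hW₀n.conj_mem w₁ hw₁ (⟨k, hk⟩ : K)⁻¹, ?_⟩
          simp only [map_mul, map_inv, Subgroup.coe_subtype, inv_inv] at e ⊢
          rw [e]; group
      · rw [hW, Ne, Subgroup.map_eq_bot_iff_of_injective _ K.subtype_injective, hW₀,
          Subgroup.map_eq_bot_iff_of_injective _ D.subtype_injective]
        exact Q.ne_bot_of_dvd_card hpD
      · rw [hW, Subgroup.card_map_of_injective K.subtype_injective, hW₀,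
          Subgroup.card_map_of_injective D.subtype_injective, Q.card_eq_multiplicity]
        exact (hp.odd_of_ne_two hp2).pow
    · push Not at hDodd
      obtain ⟨n, hn⟩ : ∃ n : ℕ, Nat.card D = 2 ^ n :=
        ⟨_, Nat.eq_prime_pow_of_unique_prime_dvd Nat.card_pos.ne' fun {q} hq hd => by
          by_contra hq2; exact hDodd q hq hq2 hd⟩
      obtain ⟨Z₀, hZ₀⟩ : ∃ Z₀ : Subgroup G, Z₀ = (center R').map R'.subtype := ⟨_, rfl⟩
      have hR'ne : R' ≠ ⊥ := by
        rw [hR', Ne, Subgroup.map_eq_bot_iff_of_injective _ N.subtype_injective]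
        exact R.ne_bot_of_dvd_card hrN
      have hR'p : IsPGroup r R' := R.2.map _
      have hZp : IsPGroup r Z₀ := hR'p.to_le (hZ₀ ▸ Subgroup.map_subtype_le _)
      have hZne : Z₀ ≠ ⊥ := by
        have : Nontrivial R' := (Subgroup.nontrivial_iff_ne_bot R').2 hR'ne
        have := hR'p.center_nontrivial
        rw [hZ₀, Ne, Subgroup.map_eq_bot_iff_of_injective _ R'.subtype_injective]
        exact (Subgroup.nontrivial_iff_ne_bot _).1 this
      have hZN : Z₀ ≤ N := by
        rw [hZ₀]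
        exact (Subgroup.map_subtype_le _).trans (Subgroup.map_subtype_le _)
      have hKZ : K ≤ normalizer (Z₀ : Set G) := by
        have key : ∀ g : G, g ∈ normalizer (R' : Set G) → ∀ w ∈ Z₀, g * w * g⁻¹ ∈ Z₀ := by
          intro g hg w hw
          rw [hZ₀] at hw ⊢
          obtain ⟨c, hc, rfl⟩ := hw
          refine ⟨normalizerMonoidHom R' ⟨g, hg⟩ c, Subgroup.mem_center_iff.2 fun y => ?_, rfl⟩
          apply (normalizerMonoidHom R' ⟨g, hg⟩ : MulAut R').symm.injective
          rw [map_mul, map_mul, MulEquiv.symm_apply_apply]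
          exact Subgroup.mem_center_iff.1 hc _
        intro k hk
        rw [Subgroup.mem_normalizer_iff]
        refine fun w => ⟨key k (hKR hk) w, fun hw => ?_⟩
        have := key k⁻¹ (inv_mem (hKR hk)) _ hw
        simpa [mul_assoc] using this
      letI hcomm : CommGroup Z₀ :=
        { (inferInstance : Group Z₀) with
          mul_comm := fun u v => by
            obtain ⟨u', hu', hu⟩ := (hZ₀ ▸ u.2 : (u : G) ∈ (center R').map R'.subtype)
            obtain ⟨v', hv', hv⟩ := (hZ₀ ▸ v.2 : (v : G) ∈ (center R').map R'.subtype)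
            apply Subtype.ext
            show (u : G) * v = v * u
            rw [← hu, ← hv, ← map_mul, ← map_mul, Subgroup.mem_center_iff.1 hv' u'] }
      let φ : K →* MulAut Z₀ := (normalizerMonoidHom Z₀).comp (Subgroup.inclusion hKZ)
      have hφ : ∀ (k : K) (v : Z₀), (φ k v : G) = (k : G) * v * (k : G)⁻¹ := fun k v => rfl
      obtain ⟨p, hp, hpQ, hp2, hpr⟩ :
          ∃ p : ℕ, p.Prime ∧ p ∣ Nat.card (G ⧸ N) ∧ p ≠ 2 ∧ p ≠ r := by
        by_contra hc
        push Not at hc
        refine hQ (ThreeInv.isSolvable_two_primes r hr fun p hp hd => ?_)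
        by_cases hp2 : p = 2
        · exact Or.inl hp2
        · exact Or.inr (hc p hp hd hp2)
      have := Fact.mk hp
      obtain ⟨x, hx⟩ := exists_prime_orderOf_dvd_card' (G := K) p
        (hpQ.trans (Subgroup.card_dvd_of_surjective f hf))
      have hxN : (x : G) ∉ N := by
        intro e
        have hd : orderOf x ∣ Nat.card D := by
          rw [← Subgroup.orderOf_mk x (show x ∈ D from e)]; exact orderOf_dvd_natCard _
        rw [hx, hn] at hd
        exact hp2 ((Nat.prime_dvd_prime_iff_eq hp Nat.prime_two).1 (hp.dvd_of_dvd_pow hd))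
      have hcen : ∀ d ∈ D, ∀ w ∈ Z₀, Commute (d : G) w := by
        intro d hd w hw
        obtain ⟨m, hm⟩ := hZp.exists_card_eq
        have hcop : (Nat.card Z₀).Coprime (Nat.card D) := by
          rw [hm, hn]; exact Nat.Coprime.pow _ _ ((Nat.coprime_primes hr Nat.prime_two).2 hr2)
        obtain ⟨v, hv⟩ := (powCoprime hcop).surjective (⟨w, hw⟩ : Z₀)
        simp only [powCoprime_apply] at hv
        have := fixed_pow_card φ D hp hx (fun d hd hc => ?_) (fun v hv => ?_) hd v
        · rw [hv] at this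
          exact mul_inv_eq_iff_eq_mul.1 ((hφ d ⟨w, hw⟩).symm.trans (congrArg Subtype.val this))
        · refine Subtype.ext (eq_one_of_commute h hxN hd (hc.map K.subtype) ?_)
          rw [Subgroup.orderOf_coe, Subgroup.orderOf_coe, hx, ← Subgroup.orderOf_mk d hd]
          refine Nat.Coprime.coprime_dvd_right (orderOf_dvd_natCard _) ?_
          rw [hn]
          exact ((Nat.coprime_primes hp Nat.prime_two).2 hp2).pow_right _
        · refine Subtype.ext (eq_one_of_commute h hxN (hZN v.2)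
            (mul_inv_eq_iff_eq_mul.1 ((hφ x v).symm.trans (congrArg Subtype.val hv))) ?_)
          rw [Subgroup.orderOf_coe, Subgroup.orderOf_coe, hx]
          refine Nat.Coprime.coprime_dvd_right (orderOf_dvd_natCard _) ?_
          rw [hm]
          exact ((Nat.coprime_primes hp hr).2 hpr).pow_right _
      refine false_of_two h hZN hKZ hZne ?_ hS'p hSK ha hb haN.1 hbN.1 habN
        (fun w hw => hcen ⟨_, mul_mem haK haK⟩ haN.2 w hw)
        (fun w hw => hcen ⟨_, mul_mem hbK hbK⟩ hbN.2 w hw)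
      obtain ⟨m, hm⟩ := hZp.exists_card_eq
      rw [hm]; exact (hr.odd_of_ne_two hr2).pow
  -- the involution is central modulo the core
  have hiso := Invol.isolated_of_sylow P hz fun g hg =>
    huniq _ hg ((Invol.orderOf_conj g z).trans hz)
  have hcz := Invol.zstar_mem_center hiso
  set O := Cfsg.oddCore (G ⧸ N) with hOdef
  have hOodd : Odd (Nat.card O) := Nat.odd_iff.2 (Nat.two_dvd_ne_zero.1
    (Core.not_dvd_card_pPrimeCore (p := 2) (G := G ⧸ N)))
  have hzO : ((z : (G ⧸ N)) : (G ⧸ N) ⧸ O) ≠ 1 := by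
    rw [Ne, QuotientGroup.eq_one_iff]
    intro e
    have hd : orderOf z ∣ Nat.card O := by
      rw [← Subgroup.orderOf_mk z e]; exact orderOf_dvd_natCard _
    rw [hz] at hd
    exact Nat.not_even_iff_odd.2 hOodd (even_iff_two_dvd.2 hd)
  set z' : (G ⧸ N) ⧸ O := QuotientGroup.mk z with hz'
  have hz2 : orderOf z' = 2 := by
    refine orderOf_eq_prime ?_ hzO
    rw [hz', ← QuotientGroup.mk_pow, (orderOf_dvd_iff_pow_eq_one.1 (dvd_of_eq hz) : z ^ 2 = 1),
      QuotientGroup.mk_one]
  have h2 : ∀ q : ℕ, q.Prime → q ∣ Nat.card ((G ⧸ N) ⧸ O) → q = 2 := by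
    intro q hq hd
    by_contra hq2
    have := Fact.mk hq
    obtain ⟨y, hy⟩ := exists_prime_orderOf_dvd_card' q hd
    have hc : Commute z' y := (Subgroup.mem_center_iff.1 hcz y).symm
    have hord : orderOf (z' * y) = 2 * q := by
      rw [hc.orderOf_mul_eq_mul_orderOf_of_coprime, hz2, hy]
      rw [hz2, hy]; exact (Nat.coprime_primes Nat.prime_two hq).2 (Ne.symm hq2)
    obtain ⟨w, hw⟩ := QuotientGroup.mk_surjective (z' * y)
    obtain ⟨g, rfl⟩ := QuotientGroup.mk_surjective w
    have hgd : 2 * q ∣ orderOf g := by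
      rw [← hord, ← hw]
      exact (orderOf_map_dvd (QuotientGroup.mk' O) _).trans
        (orderOf_map_dvd (QuotientGroup.mk' N) g)
    have hgN : g ∉ N := by
      intro e
      rw [(QuotientGroup.eq_one_iff g).2 e] at hw
      have := congrArg orderOf hw
      rw [hord, QuotientGroup.mk_one, orderOf_one] at this
      omega
    obtain ⟨p, k, hp, hk, hpk⟩ := (isPrimePow_nat_iff _).1 (h g hgN)
    rw [← hpk] at hgd
    have e1 := (Nat.prime_dvd_prime_iff_eq Nat.prime_two hp).1
      (Nat.prime_two.dvd_of_dvd_pow ((dvd_mul_right 2 q).trans hgd))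
    have e2 := (Nat.prime_dvd_prime_iff_eq hq hp).1
      (hq.dvd_of_dvd_pow ((dvd_mul_left q 2).trans hgd))
    exact hq2 (e2.trans e1.symm)
  have hsQ : Group.IsSolvable ((G ⧸ N) ⧸ O) :=
    ThreeInv.isSolvable_two_primes 2 Nat.prime_two fun q hq hd => Or.inl (h2 q hq hd)
  have hsO : Group.IsSolvable O := Cfsg.Agent.S0205.result hOodd
  exact hQ (Group.isSolvable_of_ker_le_range O.subtype (QuotientGroup.mk' O)
    (by rw [QuotientGroup.ker_mk', Subgroup.range_subtype]))

end Cfsg.Agent.PPowerOutside
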